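import Groth.Agent.FlatMisc.PushoutCovers
import Groth.Agent.AlgSp.DescentLqf
import Mathlib.AlgebraicGeometry.Morphisms.ClosedImmersion
import Mathlib.AlgebraicGeometry.Morphisms.Integral

/-!
# An affine neighbourhood of an integral fibre in a quasi-affine scheme
-/

universe u

open CategoryTheory CategoryTheory.Limits AlgebraicGeometry TopologicalSpace

namespace Groth.Agent.FEtPush

variable {O Z V : Scheme.{u}}

theorem mem_basicOpen_iff_ev (z : Z) (r : Γ(Z, ⊤)) :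
    z ∈ Z.basicOpen r ↔ Z.evaluation ⊤ z trivial r ≠ 0 :=
  (Z.evaluation_ne_zero_iff_mem_basicOpen (U := ⊤) z trivial r).symm

/-- A function on a closed subscheme times a power of a function with affine nonvanishing locus
extends. -/
theorem exists_lift_pow [CompactSpace O] [QuasiSeparatedSpace O] [IsAffine Z] (ι₀ : Z ⟶ O)
    [IsClosedImmersion ι₀] (g : Γ(O, ⊤)) (hg : IsAffineOpen (O.basicOpen g)) (r : Γ(Z, ⊤)) :
    ∃ (N : ℕ) (x : Γ(O, ⊤)), ι₀.appTop x = r * ι₀.appTop g ^ N := by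
  let t := ι₀.appTop g
  have e : ι₀ ⁻¹ᵁ O.basicOpen g = Z.basicOpen t := Scheme.preimage_basicOpen_top ι₀ g
  let ψ := ι₀.appLE (O.basicOpen g) (Z.basicOpen t) e.ge
  have hψ : Function.Surjective ψ := by
    have gen : ∀ (D : Z.Opens) (e' : D ≤ ι₀ ⁻¹ᵁ O.basicOpen g), ι₀ ⁻¹ᵁ O.basicOpen g = D →
        Function.Surjective (ι₀.appLE (O.basicOpen g) D e') := by
      rintro D e' rfl
      rw [Scheme.Hom.appLE_eq_app]
      exact ι₀.app_surjective _ hg
    exact gen _ _ e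
  let ρO := O.presheaf.map (homOfLE (le_top : O.basicOpen g ≤ ⊤)).op
  let ρZ := Z.presheaf.map (homOfLE (le_top : Z.basicOpen t ≤ ⊤)).op
  obtain ⟨x₁, hx₁⟩ := hψ (ρZ r)
  obtain ⟨n, y, hy⟩ := exists_eq_pow_mul_of_isCompact_of_isQuasiSeparated O ⊤ isCompact_univ
    isQuasiSeparated_univ g x₁
  have hy' : ρO y = ρO g ^ n * x₁ := hy
  have comm : ∀ a, ψ (ρO a) = ρZ (ι₀.appTop a) := fun a => by
    show ψ (ρO a) = ρZ (ι₀.app ⊤ a)
    rw [← CommRingCat.comp_apply, Scheme.Hom.map_appLE]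
    rfl
  have h0 : ρZ (ι₀.appTop y - t ^ n * r) = 0 := by
    rw [map_sub, map_mul, map_pow, ← comm, hy', map_mul, map_pow, comm, hx₁, sub_self]
  obtain ⟨m, hm⟩ := exists_pow_mul_eq_zero_of_res_basicOpen_eq_zero_of_isCompact Z isCompact_univ
    (ι₀.appTop y - t ^ n * r) t h0
  refine ⟨m + n, g ^ m * y, ?_⟩
  rw [mul_sub, sub_eq_zero] at hm
  rw [map_mul, map_pow, hm]
  ring

open Polynomial in
/-- A function separating the zeros of an integral element on a fibre. -/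
theorem exists_separating [IsAffine Z] [IsAffine V] (π : Z ⟶ V) [IsIntegralHom π] (v : V)
    (f : Γ(Z, ⊤)) : ∃ h : Γ(Z, ⊤), ∀ z : Z, π z = v →
      (z ∈ Z.basicOpen f → z ∉ Z.basicOpen h) ∧ (z ∉ Z.basicOpen f → z ∈ Z.basicOpen h) := by
  classical
  have hint : π.appTop.hom.IsIntegralElem f :=
    IsIntegralHom.isIntegral_app π ⊤ (isAffineOpen_top V) f
  obtain ⟨P, hP, hPf⟩ := hint
  have hne : ∃ k, v ∈ V.basicOpen (P.coeff k) := ⟨P.natDegree, by
    rw [hP.coeff_natDegree, Scheme.basicOpen_of_isUnit _ isUnit_one]; trivial⟩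
  let m := Nat.find hne
  have hm : v ∈ V.basicOpen (P.coeff m) := Nat.find_spec hne
  have hlt : ∀ k < m, v ∉ V.basicOpen (P.coeff k) := fun k hk => Nat.find_min hne hk
  let n := P.natDegree + 1
  refine ⟨∑ k ∈ Finset.range n, π.appTop (P.coeff (m + k)) * f ^ k, fun z hz => ?_⟩
  let ev := Z.evaluation ⊤ z trivial
  have hc : ∀ a, ev (π.appTop a) = 0 ↔ v ∉ V.basicOpen a := fun a => by
    rw [← not_iff_not, not_not, ← ne_eq, ← mem_basicOpen_iff_ev, ← Scheme.preimage_basicOpen_top,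
      ← hz]
    rfl
  have hsum : (∑ k ∈ Finset.range n, ev (π.appTop (P.coeff (m + k))) * ev f ^ k) * ev f ^ m = 0 := by
    have h := congrArg ev hPf
    rw [map_zero, eval₂_eq_sum_range' _ (show P.natDegree < m + n by omega), map_sum,
      Finset.sum_range_add, Finset.sum_eq_zero (fun k hk => ?_), zero_add] at h
    · rw [Finset.sum_mul, ← h]
      refine Finset.sum_congr rfl fun k _ => ?_
      rw [map_mul, map_pow]
      ring
    · rw [map_mul, (hc _).mpr (hlt k (Finset.mem_range.mp hk)), zero_mul]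
  have hsum0 : ev f = 0 → ∑ k ∈ Finset.range n, ev (π.appTop (P.coeff (m + k))) * ev f ^ k =
      ev (π.appTop (P.coeff m)) := fun h0 => by
    rw [Finset.sum_range_succ', Finset.sum_eq_zero (fun k _ => by rw [h0, pow_succ, mul_zero, mul_zero])]
    simp
  have hev : ev (∑ k ∈ Finset.range n, π.appTop (P.coeff (m + k)) * f ^ k) =
      ∑ k ∈ Finset.range n, ev (π.appTop (P.coeff (m + k))) * ev f ^ k := by
    simp [map_sum]
  refine ⟨fun hf hh => ?_, fun hf => ?_⟩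
  · rw [mem_basicOpen_iff_ev] at hf hh
    refine hh (hev.trans ?_)
    exact (mul_eq_zero.mp hsum).resolve_right (pow_ne_zero _ hf)
  · rw [mem_basicOpen_iff_ev, not_not] at hf
    rw [mem_basicOpen_iff_ev]
    show ev _ ≠ 0
    rw [hev, hsum0 hf]
    exact fun h => (hc _).mp h hm

/-- In a quasi-affine scheme an integral fibre of a closed affine subscheme lies in an affine open. -/
theorem exists_affine_of_fibre [O.IsQuasiAffine] [IsAffine Z] [IsAffine V] (ι₀ : Z ⟶ O)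
    [IsClosedImmersion ι₀] (π : Z ⟶ V) [IsIntegralHom π] (v : V) :
    ∃ U : O.Opens, IsAffineOpen U ∧ π ⁻¹' {v} ⊆ ι₀ ⁻¹' (U : Set O) := by
  classical
  let good : Γ(O, ⊤) → Prop := fun b =>
    (PrimeSpectrum.basicOpen b : Set (PrimeSpectrum Γ(O, ⊤))) ⊆ Set.range O.toSpecΓ
  have haff : ∀ b, good b → IsAffineOpen (O.basicOpen b) := fun b hb => by
    rw [← Scheme.toSpecΓ_preimage_basicOpen, ← Scheme.Hom.isAffineOpen_iff_of_isOpenImmersion O.toSpecΓ]
    convert IsAffineOpen.Spec_basicOpen b using 1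
    exact SetLike.coe_injective (Set.image_preimage_eq_of_subset hb)
  have hadd : ∀ f g x : Γ(O, ⊤), good f → good g → good (f + g * x) := fun f g x hf hg p hp => by
    by_cases hfp : f ∈ p.asIdeal
    · refine hg (fun hgp => hp ?_)
      exact p.asIdeal.add_mem hfp (p.asIdeal.mul_mem_right _ hgp)
    · exact hf hfp
  have hunion : ∀ f g, good f → good g → ∃ s, good s ∧ ∀ z : Z, π z = v →
      (ι₀ z ∈ O.basicOpen f ∨ ι₀ z ∈ O.basicOpen g) → ι₀ z ∈ O.basicOpen s := fun f g hf hg => by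
    obtain ⟨h, hh⟩ := exists_separating π v (ι₀.appTop f)
    obtain ⟨N, x, hx⟩ := exists_lift_pow ι₀ g (haff g hg) h
    refine ⟨f + g * x, hadd f g x hf hg, fun z hz hor => ?_⟩
    have key : ∀ a, ι₀ z ∈ O.basicOpen a ↔ Z.evaluation ⊤ z trivial (ι₀.appTop a) ≠ 0 := fun a => by
      rw [← mem_basicOpen_iff_ev, ← Scheme.preimage_basicOpen_top]
      rfl
    rw [key, key] at hor
    rw [key, map_add, map_mul, hx, map_add, map_mul, map_mul, map_pow]
    by_cases h0 : Z.evaluation ⊤ z trivial (ι₀.appTop f) = 0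
    · rw [h0, zero_add]
      have hhz := (mem_basicOpen_iff_ev z h).mp ((hh z hz).2 fun h' =>
        (mem_basicOpen_iff_ev z _).mp h' h0)
      exact mul_ne_zero (hor.resolve_left (not_not.mpr h0))
        (mul_ne_zero hhz (pow_ne_zero _ (hor.resolve_left (not_not.mpr h0))))
    · have : Z.evaluation ⊤ z trivial h = 0 := by
        by_contra hne
        exact (hh z hz).1 ((mem_basicOpen_iff_ev z _).mpr h0) ((mem_basicOpen_iff_ev z h).mpr hne)
      rwa [this, zero_mul, mul_zero, add_zero]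
  have hK : IsCompact (ι₀ '' (π ⁻¹' {v})) :=
    (π.isCompact_preimage_singleton v).image ι₀.continuous
  have hpt : ∀ o : O, ∃ b, good b ∧ o ∈ O.basicOpen b := fun o => by
    obtain ⟨_, ⟨_, ⟨r, rfl⟩, rfl⟩, ho, hb⟩ := (PrimeSpectrum.isBasis_basic_opens
      (R := Γ(O, ⊤))).exists_subset_of_mem_open (Set.mem_range_self o)
      O.toSpecΓ.opensRange.2
    refine ⟨r, hb, ?_⟩
    rw [← Scheme.toSpecΓ_preimage_basicOpen]
    exact ho
  choose b hb hob using hpt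
  obtain ⟨T, hT⟩ := hK.elim_finite_subcover (fun o => (O.basicOpen (b o) : Set O))
    (fun o => (O.basicOpen (b o)).2) fun o _ => Set.mem_iUnion.mpr ⟨o, hob o⟩
  suffices ∀ T : Finset O, ∃ s, good s ∧ ∀ z : Z, π z = v →
      (∃ o ∈ T, ι₀ z ∈ O.basicOpen (b o)) → ι₀ z ∈ O.basicOpen s by
    obtain ⟨s, hs, hs'⟩ := this T
    refine ⟨O.basicOpen s, haff s hs, fun z hz => hs' z hz ?_⟩
    obtain ⟨o, ho, hzo⟩ := Set.mem_iUnion₂.mp (hT ⟨z, hz, rfl⟩)
    exact ⟨o, ho, hzo⟩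
  intro T
  induction T using Finset.induction_on with
  | empty => exact ⟨0, fun p hp => absurd p.asIdeal.zero_mem hp, fun z _ ⟨o, ho, _⟩ => absurd ho (by simp)⟩
  | @insert o T _ ih =>
    obtain ⟨s, hs, hs'⟩ := ih
    obtain ⟨s', hs'', hs'''⟩ := hunion (b o) s (hb o) hs
    refine ⟨s', hs'', fun z hz ⟨o', ho', h⟩ => hs''' z hz ?_⟩
    rcases Finset.mem_insert.mp ho' with rfl | ho'
    exacts [Or.inl h, Or.inr (hs' z hz ⟨o', ho', h⟩)]

/-- Base change of the covering condition along separated locally quasi-finite morphisms. -/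
theorem exists_cover_lqf {X Y Z X' Y' Z' : Scheme.{u}} {i : Z ⟶ X} {j : Z ⟶ Y}
    (h3 : ∀ y : Y, ∃ U : X.Opens, IsAffineOpen U ∧ j ⁻¹' {y} ⊆ i ⁻¹' (U : Set X))
    {i' : Z' ⟶ X'} {j' : Z' ⟶ Y'} [IsClosedImmersion i'] [IsIntegralHom j'] {f : X' ⟶ X}
    {g : Y' ⟶ Y} {h : Z' ⟶ Z} (wX : i' ≫ f = h ≫ i) (wY : j' ≫ g = h ≫ j)
    [IsSeparated f] [LocallyQuasiFinite f] [LocallyOfFiniteType f] (v : Y') :
    ∃ U : X'.Opens, IsAffineOpen U ∧ j' ⁻¹' {v} ⊆ i' ⁻¹' (U : Set X') := by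
  obtain ⟨U₀, hU₀, hsub⟩ := h3 (g v)
  have : IsAffine U₀.toScheme := hU₀
  let X₁ := f ⁻¹ᵁ U₀
  have hfib : ∀ z, j' z = v → i' z ∈ X₁ := fun z hz => by
    show f (i' z) ∈ U₀
    rw [← Scheme.Hom.comp_apply, wX, Scheme.Hom.comp_apply]
    refine hsub ?_
    show j (h z) = g v
    rw [← Scheme.Hom.comp_apply, ← wY, Scheme.Hom.comp_apply, hz]
  let V₁ : Y'.Opens := ⟨(j' '' (i' ⁻¹' (X₁ : Set X'))ᶜ)ᶜ,
    (j'.isClosedMap _ (X₁.2.preimage i'.continuous).isClosed_compl).isOpen_compl⟩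
  have hv : v ∈ V₁ := fun ⟨z, hz, hzv⟩ => hz (hfib z hzv)
  obtain ⟨V₀, hV₀, hvV, hVV⟩ := exists_isAffineOpen_mem_and_subset hv
  have : IsAffine V₀.toScheme := hV₀
  let Z₀ := j' ⁻¹ᵁ V₀
  have hZ₀ : IsAffineOpen Z₀ := hV₀.preimage j'
  have : IsAffine Z₀.toScheme := hZ₀
  let O' : X'.Opens := X₁ ⊓ ⟨(i' '' (Z₀ : Set Z')ᶜ)ᶜ,
    (i'.isClosedMap _ Z₀.2.isClosed_compl).isOpen_compl⟩
  have hZO : i' '' (Z₀ : Set Z') ⊆ O' := by
    rintro _ ⟨z, hz, rfl⟩
    refine ⟨?_, fun ⟨z', hz', e⟩ => hz' (i'.isClosedEmbedding.injective e ▸ hz)⟩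
    by_contra hzX
    exact hVV (show j' z ∈ V₀ from hz) ⟨z, hzX, rfl⟩
  choose W hW hxW hWO using fun x : O' => exists_isAffineOpen_mem_and_subset x.2
  obtain ⟨T, hT⟩ := (hZ₀.isCompact.image i'.continuous).elim_finite_subcover
    (fun x : O' => (W x : Set X')) (fun x => (W x).2)
    fun p hp => Set.mem_iUnion.mpr ⟨⟨p, hZO hp⟩, hxW _⟩
  let O : X'.Opens := ⟨⋃ x ∈ T, (W x : Set X'), isOpen_biUnion fun x _ => (W x).2⟩
  have hOc : IsCompact (O : Set X') := T.finite_toSet.isCompact_biUnion fun x _ => (hW x).isCompact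
  have hOO : O ≤ O' := fun p hp => by
    obtain ⟨x, -, hx⟩ := Set.mem_iUnion₂.mp hp
    exact hWO x hx
  have : CompactSpace O.toScheme := isCompact_iff_compactSpace.mp hOc
  let fO := f.resLE U₀ O (hOO.trans inf_le_left)
  have : IsSeparated fO := by
    have : IsSeparated (O.ι ≫ f) := inferInstance
    have e : fO ≫ U₀.ι = O.ι ≫ f := Scheme.Hom.resLE_comp_ι _ _
    have : IsSeparated (fO ≫ U₀.ι) := e ▸ this
    exact IsSeparated.of_comp fO U₀.ι
  have : LocallyOfFiniteType fO := by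
    have e : fO ≫ U₀.ι = O.ι ≫ f := Scheme.Hom.resLE_comp_ι _ _
    have : LocallyOfFiniteType (fO ≫ U₀.ι) := e ▸ inferInstance
    exact locallyOfFiniteType_of_comp fO U₀.ι
  have : O.toScheme.IsQuasiAffine := AlgSp.isQuasiAffine_of_lqf fO
  have hpre : i' ⁻¹ᵁ O = Z₀ := by
    refine Opens.ext (Set.ext fun z => ⟨fun hz => ?_, fun hz => hT ⟨z, hz, rfl⟩⟩)
    by_contra hz0
    exact (hOO hz).2 ⟨z, hz0, rfl⟩
  let ι₀ : Z₀.toScheme ⟶ O.toScheme := (Scheme.isoOfEq Z' hpre).inv ≫ i' ∣_ O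
  obtain ⟨U, hU, hUsub⟩ := exists_affine_of_fibre ι₀ (j' ∣_ V₀) ⟨v, hvV⟩
  refine ⟨O.ι ''ᵁ U, hU.image_of_isOpenImmersion O.ι, fun z (hz : j' z = v) => ?_⟩
  have hz0 : z ∈ Z₀ := show j' z ∈ V₀ from hz ▸ hvV
  have := hUsub (show (j' ∣_ V₀) ⟨z, hz0⟩ = ⟨v, hvV⟩ from Subtype.ext (by
    rw [morphismRestrict_base_coe]; exact hz))
  refine ⟨ι₀ ⟨z, hz0⟩, this, ?_⟩
  have e2 : ι₀ ≫ O.ι = Z₀.ι ≫ i' := by simp [ι₀, Z₀]
  exact congr($(e2) ⟨z, hz0⟩)

end Groth.Agent.FEtPush
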