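import Groth.Agent.FEtPush.Quasi

/-!
# Properties of the induced morphism between pushouts
-/

universe u

open CategoryTheory CategoryTheory.Limits AlgebraicGeometry TopologicalSpace TensorProduct

namespace Groth.Agent.FEtPush

open PinchLib

set_option linter.style.haveILetI false

variable {X Y Z X' Y' Z' W T : Scheme.{u}}

/-- Affine charts of the induced morphism of pushouts: Milnor squares with cartesian sides. -/
theorem exists_charts {i : Z ⟶ X} {j : Z ⟶ Y} [IsClosedImmersion i]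
    {i' : Z' ⟶ X'} {j' : Z' ⟶ Y'} [IsClosedImmersion i'] {f : X' ⟶ X} {g : Y' ⟶ Y} {h : Z' ⟶ Z}
    (hX : IsPullback i' h f i) (hY : IsPullback j' h g j) {a : X ⟶ W} {b : Y ⟶ W}
    {a' : X' ⟶ T} {b' : Y' ⟶ T} {k : T ⟶ W}
    (hsh : IsPushout (toSh.map i) (toSh.map j) (toSh.map a) (toSh.map b))
    (hTsh : IsPushout (toSh.map i') (toSh.map j') (toSh.map a') (toSh.map b'))
    [IsAffineHom a] [IsAffineHom b] [IsAffineHom a'] [IsAffineHom b']
    (wa : a' ≫ k = f ≫ a) (wb : b' ≫ k = g ≫ b) :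
    ∃ (ι : Type u) (O : ι → W.Opens) (P : ι → T.Opens) (hO : ∀ p, IsAffineOpen (O p))
      (hP : ∀ p, IsAffineOpen (P p)) (hPO : ∀ p, P p ≤ k ⁻¹ᵁ O p) (_ : ⨆ p, P p = ⊤)
      (ea : ∀ p, a' ⁻¹ᵁ P p ≤ f ⁻¹ᵁ a ⁻¹ᵁ O p) (eb : ∀ p, b' ⁻¹ᵁ P p ≤ g ⁻¹ᵁ b ⁻¹ᵁ O p), ∀ p,
      IsPushout (k.appLE (O p) (P p) (hPO p)) (a.appLE (O p) (a ⁻¹ᵁ O p) le_rfl)
        (a'.appLE (P p) (a' ⁻¹ᵁ P p) le_rfl) (f.appLE (a ⁻¹ᵁ O p) (a' ⁻¹ᵁ P p) (ea p)) ∧
      IsPushout (k.appLE (O p) (P p) (hPO p)) (b.appLE (O p) (b ⁻¹ᵁ O p) le_rfl)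
        (b'.appLE (P p) (b' ⁻¹ᵁ P p) le_rfl) (g.appLE (b ⁻¹ᵁ O p) (b' ⁻¹ᵁ P p) (eb p)) ∧
      ∃ (C : CommRingCat.{u}) (fB : Γ(Y, b ⁻¹ᵁ O p) ⟶ C) (fA : Γ(X, a ⁻¹ᵁ O p) ⟶ C),
        IsFib (b.appLE (O p) (b ⁻¹ᵁ O p) le_rfl) (a.appLE (O p) (a ⁻¹ᵁ O p) le_rfl) fB fA := by
  let ι := {p : W.affineOpens × T.affineOpens // (p.2 : T.Opens) ≤ k ⁻¹ᵁ p.1}
  let O : ι → W.Opens := fun p => p.1.1
  let P : ι → T.Opens := fun p => p.1.2
  have hsup : ⨆ p, P p = ⊤ := top_le_iff.mp fun t _ => by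
    obtain ⟨O₁, hO₁, htO, -⟩ := exists_isAffineOpen_mem_and_subset
      (show k t ∈ (⊤ : W.Opens) from trivial)
    obtain ⟨P₁, hP₁, htP, hPO⟩ := exists_isAffineOpen_mem_and_subset (show t ∈ k ⁻¹ᵁ O₁ from htO)
    exact Opens.mem_iSup.mpr ⟨⟨(⟨O₁, hO₁⟩, ⟨P₁, hP₁⟩), hPO⟩, htP⟩
  have ea : ∀ p, a' ⁻¹ᵁ P p ≤ f ⁻¹ᵁ a ⁻¹ᵁ O p := fun p => by
    rw [← Scheme.Hom.comp_preimage f a, ← wa, Scheme.Hom.comp_preimage]
    exact a'.preimage_mono p.2
  have eb : ∀ p, b' ⁻¹ᵁ P p ≤ g ⁻¹ᵁ b ⁻¹ᵁ O p := fun p => by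
    rw [← Scheme.Hom.comp_preimage g b, ← wb, Scheme.Hom.comp_preimage]
    exact b'.preimage_mono p.2
  have main : ∀ p,
      IsPushout (k.appLE (O p) (P p) p.2) (a.appLE (O p) (a ⁻¹ᵁ O p) le_rfl)
        (a'.appLE (P p) (a' ⁻¹ᵁ P p) le_rfl) (f.appLE (a ⁻¹ᵁ O p) (a' ⁻¹ᵁ P p) (ea p)) ∧
      IsPushout (k.appLE (O p) (P p) p.2) (b.appLE (O p) (b ⁻¹ᵁ O p) le_rfl)
        (b'.appLE (P p) (b' ⁻¹ᵁ P p) le_rfl) (g.appLE (b ⁻¹ᵁ O p) (b' ⁻¹ᵁ P p) (eb p)) ∧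
      ∃ (C : CommRingCat.{u}) (fB : Γ(Y, b ⁻¹ᵁ O p) ⟶ C) (fA : Γ(X, a ⁻¹ᵁ O p) ⟶ C),
        IsFib (b.appLE (O p) (b ⁻¹ᵁ O p) le_rfl) (a.appLE (O p) (a ⁻¹ᵁ O p) le_rfl) fB fA := fun p => by
    have hO : IsAffineOpen (O p) := p.1.1.2
    have hP : IsAffineOpen (P p) := p.1.2.2
    letI := (b.appLE (O p) (b ⁻¹ᵁ O p) le_rfl).hom.toAlgebra
    letI := (a.appLE (O p) (a ⁻¹ᵁ O p) le_rfl).hom.toAlgebra
    letI := (j.appLE (b ⁻¹ᵁ O p) (i ⁻¹ᵁ a ⁻¹ᵁ O p) (PinchLib.preimage_eq hsh (O p)).le).hom.toAlgebra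
    letI := (i.appLE (a ⁻¹ᵁ O p) (i ⁻¹ᵁ a ⁻¹ᵁ O p) le_rfl).hom.toAlgebra
    letI := ((i ≫ a).appLE (O p) (i ⁻¹ᵁ a ⁻¹ᵁ O p) le_rfl).hom.toAlgebra
    letI := (b'.appLE (P p) (b' ⁻¹ᵁ P p) le_rfl).hom.toAlgebra
    letI := (a'.appLE (P p) (a' ⁻¹ᵁ P p) le_rfl).hom.toAlgebra
    letI := (j'.appLE (b' ⁻¹ᵁ P p) (i' ⁻¹ᵁ a' ⁻¹ᵁ P p)
      (PinchLib.preimage_eq hTsh (P p)).le).hom.toAlgebra
    letI := (i'.appLE (a' ⁻¹ᵁ P p) (i' ⁻¹ᵁ a' ⁻¹ᵁ P p) le_rfl).hom.toAlgebra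
    letI := ((i' ≫ a').appLE (P p) (i' ⁻¹ᵁ a' ⁻¹ᵁ P p) le_rfl).hom.toAlgebra
    obtain ⟨_, _, hs⟩ := PinchLib.isFibreSquare hsh (O p) (hO.preimage a)
    have hF := IsFib.of_isFibreSquare hs
    obtain ⟨_, _, hs'⟩ := PinchLib.isFibreSquare hTsh (P p) (hP.preimage a')
    have hF' := IsFib.of_isFibreSquare hs'
    let C' : Z'.Opens := i' ⁻¹ᵁ a' ⁻¹ᵁ P p
    have hC : C' ≤ h ⁻¹ᵁ i ⁻¹ᵁ a ⁻¹ᵁ O p := by
      show i' ⁻¹ᵁ a' ⁻¹ᵁ P p ≤ _
      rw [← Scheme.Hom.comp_preimage h i, ← hX.w, Scheme.Hom.comp_preimage]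
      exact i'.preimage_mono (ea p)
    have eC : C' ≤ j' ⁻¹ᵁ b' ⁻¹ᵁ P p := (PinchLib.preimage_eq hTsh (P p)).le
    have hC2 : C' = j' ⁻¹ᵁ (b' ⁻¹ᵁ P p) ⊓ h ⁻¹ᵁ i ⁻¹ᵁ a ⁻¹ᵁ O p :=
      le_antisymm (le_inf eC hC) (inf_le_left.trans (PinchLib.preimage_eq hTsh (P p)).ge)
    have hA := isPushout_appLE hX (hO.preimage a) (hP.preimage a') ((hO.preimage a).preimage i)
      (ea p) le_rfl (inf_eq_left.mpr hC).symm le_rfl hC
    have hB := isPushout_appLE hY (hO.preimage b) (hP.preimage b') ((hO.preimage a).preimage i)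
      (eb p) (PinchLib.preimage_eq hsh (O p)).le hC2 eC hC
    obtain ⟨r1, r2, -, -⟩ := milnor_glue (gP := k.appLE (O p) (P p) p.2) hF hF'
      (by
        show b.appLE (O p) (b ⁻¹ᵁ O p) le_rfl ≫ g.appLE (b ⁻¹ᵁ O p) (b' ⁻¹ᵁ P p) (eb p) =
          k.appLE (O p) (P p) p.2 ≫ b'.appLE (P p) (b' ⁻¹ᵁ P p) le_rfl
        rw [Scheme.Hom.appLE_comp_appLE, Scheme.Hom.appLE_comp_appLE]
        simp only [wb])
      (by
        show a.appLE (O p) (a ⁻¹ᵁ O p) le_rfl ≫ f.appLE (a ⁻¹ᵁ O p) (a' ⁻¹ᵁ P p) (ea p) =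
          k.appLE (O p) (P p) p.2 ≫ a'.appLE (P p) (a' ⁻¹ᵁ P p) le_rfl
        rw [Scheme.Hom.appLE_comp_appLE, Scheme.Hom.appLE_comp_appLE]
        simp only [wa])
      hB.flip hA.flip
    exact ⟨r2.flip, r1.flip, _, _, _, hF⟩
  exact ⟨ι, O, P, fun p => p.1.1.2, fun p => p.1.2.2, fun p => p.2, hsup, ea, eb, main⟩

/-- A property of morphisms which glues along Milnor squares passes to the pushout. -/
theorem of_charts {Pr : MorphismProperty Scheme.{u}} {Q : ∀ {R S : Type u} [CommRing R] [CommRing S], (R →+* S) → Prop}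
    [HasRingHomProperty Pr Q] [Pr.IsStableUnderComposition]
    (hι : ∀ {V : Scheme.{u}} (U : V.Opens), Pr U.ι) {k : T ⟶ W} {ι : Type u} {O : ι → W.Opens} {P : ι → T.Opens}
    (hO : ∀ p, IsAffineOpen (O p)) (hP : ∀ p, IsAffineOpen (P p)) (hPO : ∀ p, P p ≤ k ⁻¹ᵁ O p)
    (hsup : ⨆ p, P p = ⊤) (hQ : ∀ p, Q (k.appLE (O p) (P p) (hPO p)).hom) : Pr k := by
  refine IsZariskiLocalAtSource.of_iSup_eq_top (P := Pr) P hsup fun p => ?_
  have : IsAffine (O p).toScheme := hO p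
  have : IsAffine (P p).toScheme := hP p
  have hh : Pr (k.resLE (O p) (P p) (hPO p)) := by
    rw [HasRingHomProperty.iff_of_isAffine (P := Pr)]
    have : (RingHom.toMorphismProperty Q).RespectsIso :=
      RingHom.toMorphismProperty_respectsIso_iff.mp (HasRingHomProperty.isLocal_ringHomProperty Pr).respectsIso
    exact ((RingHom.toMorphismProperty Q).arrow_mk_iso_iff
      (arrowResLEAppIso k (O p) (P p) (hPO p))).mpr (hQ p)
  rw [← Scheme.Hom.resLE_comp_ι k (hPO p)]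
  exact Pr.comp_mem _ _ hh (hι _)

theorem glue_props {P B A C P' B' A' : CommRingCat.{u}} {pB : P ⟶ B} {pA : P ⟶ A} {fB : B ⟶ C}
    {fA : A ⟶ C} {pB' : P' ⟶ B'} {pA' : P' ⟶ A'} {gP : P ⟶ P'} {gB : B ⟶ B'} {gA : A ⟶ A'}
    (h : IsFib pB pA fB fA) (q1 : IsPushout pB gP gB pB') (q2 : IsPushout pA gP gA pA') :
    (gB.hom.Flat → gA.hom.Flat → gP.hom.Flat) ∧
    (gB.hom.Flat → gA.hom.Flat → gB.hom.FinitePresentation → gA.hom.FinitePresentation →
      gP.hom.FinitePresentation) ∧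
    (gB.hom.Smooth → gA.hom.Smooth → gP.hom.Smooth) ∧
    (gB.hom.Etale → gA.hom.Etale → gP.hom.Etale) := by
  algebraize [pB.hom, pA.hom, fB.hom, fA.hom, (pB ≫ fB).hom, pB'.hom, pA'.hom, gP.hom, gB.hom,
    gA.hom, (gP ≫ pB').hom, (gP ≫ pA').hom]
  have t1 : IsScalarTower P B C := IsScalarTower.of_algebraMap_eq' rfl
  have t2 : IsScalarTower P A C := IsScalarTower.of_algebraMap_eq' (congrArg CommRingCat.Hom.hom h.w)
  have t3 : IsScalarTower P B B' := IsScalarTower.of_algebraMap_eq' (congrArg CommRingCat.Hom.hom q1.w).symm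
  have t4 : IsScalarTower P P' B' := IsScalarTower.of_algebraMap_eq' rfl
  have t5 : IsScalarTower P A A' := IsScalarTower.of_algebraMap_eq' (congrArg CommRingCat.Hom.hom q2.w).symm
  have t6 : IsScalarTower P P' A' := IsScalarTower.of_algebraMap_eq' rfl
  have p1 : Algebra.IsPushout P B P' B' := CommRingCat.isPushout_iff_isPushout.mp q1
  have p2 : Algebra.IsPushout P A P' A' := CommRingCat.isPushout_iff_isPushout.mp q2
  have hsq : EtMil.IsFibreSquare P B A C := ⟨h.surj, fun b a hab => by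
    obtain ⟨p, hb, ha⟩ := h.glue b a hab
    exact ⟨p, ⟨hb, ha⟩, fun q hq => h.inj q p (hq.1.trans hb.symm) (hq.2.trans ha.symm)⟩⟩
  let eB := Algebra.IsPushout.equiv P B P' B'
  let eA := Algebra.IsPushout.equiv P A P' A'
  have flat : gB.hom.Flat → gA.hom.Flat → Module.Flat P P' := fun h1 h2 => by
    have : Module.Flat B B' := h1
    have : Module.Flat A A' := h2
    have : Module.Flat B (B ⊗[P] P') := Module.Flat.of_linearEquiv eB.toLinearEquiv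
    have : Module.Flat A (A ⊗[P] P') := Module.Flat.of_linearEquiv eA.toLinearEquiv
    exact EtMilLib.flat_of_baseChange hsq (L := P')
  refine ⟨flat, fun h1 h2 h3 h4 => ?_, fun h1 h2 => ?_, fun h1 h2 => ?_⟩
  · have := flat h1 h2
    have : Algebra.FinitePresentation B B' := h3
    have : Algebra.FinitePresentation A A' := h4
    have : Algebra.FinitePresentation B (B ⊗[P] P') := Algebra.FinitePresentation.equiv eB.symm
    have : Algebra.FinitePresentation A (A ⊗[P] P') := Algebra.FinitePresentation.equiv eA.symm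
    exact EtMilLib.finitePresentation_algebra_of_baseChange hsq (D' := P')
  · have : Algebra.Smooth B B' := RingHom.smooth_algebraMap.mp h1
    have : Algebra.Smooth A A' := RingHom.smooth_algebraMap.mp h2
    have : Algebra.Smooth B (B ⊗[P] P') := Algebra.Smooth.of_equiv eB.symm
    have : Algebra.Smooth A (A ⊗[P] P') := Algebra.Smooth.of_equiv eA.symm
    exact RingHom.smooth_algebraMap.mpr (EtMilLib.smooth_of_baseChange hsq (D' := P'))
  · have : Algebra.Etale B B' := RingHom.etale_algebraMap.mp h1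
    have : Algebra.Etale A A' := RingHom.etale_algebraMap.mp h2
    have : Algebra.Etale B (B ⊗[P] P') := Algebra.Etale.of_equiv eB.symm
    have : Algebra.Etale A (A ⊗[P] P') := Algebra.Etale.of_equiv eA.symm
    exact RingHom.etale_algebraMap.mpr (EtMilLib.etale_of_baseChange hsq (D' := P'))

/-- The five properties pass between the pieces and the pushout (both legs closed immersions). -/
theorem pushout_props {i : Z ⟶ X} {j : Z ⟶ Y} [IsClosedImmersion i] [IsClosedImmersion j]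
    {i' : Z' ⟶ X'} {j' : Z' ⟶ Y'} {f : X' ⟶ X} {g : Y' ⟶ Y} {h : Z' ⟶ Z}
    (hX : IsPullback i' h f i) (hY : IsPullback j' h g j) {a : X ⟶ W} {b : Y ⟶ W}
    {a' : X' ⟶ T} {b' : Y' ⟶ T} {k : T ⟶ W} (hpo : IsPushout i j a b) (hT : IsPushout i' j' a' b')
    (wa : a' ≫ k = f ≫ a) (wb : b' ≫ k = g ≫ b) :
    (LocallyOfFiniteType k ↔ LocallyOfFiniteType f ∧ LocallyOfFiniteType g) ∧
    (Flat k ↔ Flat f ∧ Flat g) ∧
    ((Flat k ∧ LocallyOfFinitePresentation k) ↔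
      (Flat f ∧ LocallyOfFinitePresentation f) ∧ (Flat g ∧ LocallyOfFinitePresentation g)) ∧
    (Smooth k ↔ Smooth f ∧ Smooth g) ∧ (Etale k ↔ Etale f ∧ Etale g) := by
  have : IsClosedImmersion i' := MorphismProperty.of_isPullback hX.flip ‹IsClosedImmersion i›
  have : IsClosedImmersion j' := MorphismProperty.of_isPullback hY.flip ‹IsClosedImmersion j›
  have hc := fun y => FlatMisc.PushoutCovers.exists_cover_closed i j y
  have hc' := fun y => FlatMisc.PushoutCovers.exists_cover_closed i' j' y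
  obtain ⟨-, hb, ha, -⟩ := StdPushout.props i j hc hpo
  obtain ⟨-, hb', ha', -⟩ := StdPushout.props i' j' hc' hT
  have := hb; have := ha; have := hb'; have := ha'
  obtain ⟨ι, O, P, hO, hP, hPO, hsup, ea, eb, main⟩ := exists_charts hX hY
    (StdRinged.isPushout_toSh hc hpo) (StdRinged.isPushout_toSh hc' hT) wa wb
  have hPa : IsPullback a' f k a :=
    isPullback_of_charts' wa O hO P hP hPO hsup ea fun p => (main p).1
  have hPb : IsPullback b' g k b :=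
    isPullback_of_charts' wb O hO P hP hPO hsup eb fun p => (main p).2.1
  have hOA := fun p => (hO p).preimage a
  have hOB := fun p => (hO p).preimage b
  have hPA := fun p => (hP p).preimage a'
  have hPB := fun p => (hP p).preimage b'
  have flat : Flat f → Flat g → Flat k := fun _ _ => of_charts (Pr := @Flat) (fun _ => inferInstance) hO hP hPO hsup fun p => by
    obtain ⟨r2, r1, C, fB, fA, hF⟩ := main p
    exact (glue_props hF r1.flip r2.flip).1 (Flat.flat_appLE g (hOB p) (hPB p) _)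
      (Flat.flat_appLE f (hOA p) (hPA p) _)
  refine ⟨⟨fun _ => ⟨MorphismProperty.of_isPullback hPa ‹_›, MorphismProperty.of_isPullback hPb ‹_›⟩,
      fun ⟨_, _⟩ => of_charts (Pr := @LocallyOfFiniteType) (fun _ => inferInstance) hO hP hPO hsup fun p => ?_⟩,
    ⟨fun _ => ⟨MorphismProperty.of_isPullback hPa ‹_›, MorphismProperty.of_isPullback hPb ‹_›⟩,
      fun ⟨h1, h2⟩ => flat h1 h2⟩,
    ⟨fun ⟨h1, h2⟩ => ⟨⟨MorphismProperty.of_isPullback hPa h1, MorphismProperty.of_isPullback hPa h2⟩,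
        MorphismProperty.of_isPullback hPb h1, MorphismProperty.of_isPullback hPb h2⟩,
      fun ⟨⟨h1, h2⟩, h3, h4⟩ => ⟨flat h1 h3,
        of_charts (Pr := @LocallyOfFinitePresentation) (fun _ => inferInstance) hO hP hPO hsup fun p => ?_⟩⟩,
    ⟨fun _ => ⟨MorphismProperty.of_isPullback hPa ‹_›, MorphismProperty.of_isPullback hPb ‹_›⟩,
      fun ⟨_, _⟩ => of_charts (Pr := @Smooth) (fun _ => inferInstance) hO hP hPO hsup fun p => ?_⟩,
    ⟨fun _ => ⟨MorphismProperty.of_isPullback hPa ‹_›, MorphismProperty.of_isPullback hPb ‹_›⟩,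
      fun ⟨_, _⟩ => of_charts (Pr := @Etale) (fun _ => inferInstance) hO hP hPO hsup fun p => ?_⟩⟩
  all_goals obtain ⟨r2, r1, C, fB, fA, hF⟩ := main p
  · exact finiteType_glue hF r1.flip r2.flip (g.finiteType_appLE (hOB p) (hPB p) _)
      (f.finiteType_appLE (hOA p) (hPA p) _)
  · exact (glue_props hF r1.flip r2.flip).2.1 (Flat.flat_appLE g (hOB p) (hPB p) _)
      (Flat.flat_appLE f (hOA p) (hPA p) _) (g.finitePresentation_appLE (hOB p) (hPB p) _)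
      (f.finitePresentation_appLE (hOA p) (hPA p) _)
  · exact (glue_props hF r1.flip r2.flip).2.2.1 (g.smooth_appLE (hOB p) (hPB p) _)
      (f.smooth_appLE (hOA p) (hPA p) _)
  · exact (glue_props hF r1.flip r2.flip).2.2.2 (g.etale_appLE (hOB p) (hPB p) _)
      (f.etale_appLE (hOA p) (hPA p) _)

end Groth.Agent.FEtPush
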