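import Groth.Agent.FEtPush.Scheme
import Groth.Agent.FEtPush.Nbhd
import Groth.Agent.S7181
import Mathlib.AlgebraicGeometry.Morphisms.QuasiFinite

/-!
# Pushouts are functorial for separated locally quasi-finite morphisms
-/

universe u

open CategoryTheory CategoryTheory.Limits AlgebraicGeometry TopologicalSpace TensorProduct

namespace Groth.Agent.FEtPush

open PinchLib

set_option linter.style.haveILetI false

theorem finiteType_glue {P B A C P' B' A' : CommRingCat.{u}} {pB : P ⟶ B} {pA : P ⟶ A} {fB : B ⟶ C}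
    {fA : A ⟶ C} {pB' : P' ⟶ B'} {pA' : P' ⟶ A'} {gP : P ⟶ P'} {gB : B ⟶ B'} {gA : A ⟶ A'}
    (h : IsFib pB pA fB fA) (q1 : IsPushout pB gP gB pB') (q2 : IsPushout pA gP gA pA')
    (h1 : gB.hom.FiniteType) (h2 : gA.hom.FiniteType) : gP.hom.FiniteType := by
  algebraize [pB.hom, pA.hom, fB.hom, fA.hom, (pB ≫ fB).hom, pB'.hom, pA'.hom, gP.hom, gB.hom,
    gA.hom, (gP ≫ pB').hom, (gP ≫ pA').hom]
  have t1 : IsScalarTower P B C := IsScalarTower.of_algebraMap_eq' rfl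
  have t2 : IsScalarTower P A C := IsScalarTower.of_algebraMap_eq' (congrArg CommRingCat.Hom.hom h.w)
  have t3 : IsScalarTower P B B' := IsScalarTower.of_algebraMap_eq' (congrArg CommRingCat.Hom.hom q1.w).symm
  have t4 : IsScalarTower P P' B' := IsScalarTower.of_algebraMap_eq' rfl
  have t5 : IsScalarTower P A A' := IsScalarTower.of_algebraMap_eq' (congrArg CommRingCat.Hom.hom q2.w).symm
  have t6 : IsScalarTower P P' A' := IsScalarTower.of_algebraMap_eq' rfl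
  have p1 : Algebra.IsPushout P B P' B' := CommRingCat.isPushout_iff_isPushout.mp q1
  have p2 : Algebra.IsPushout P A P' A' := CommRingCat.isPushout_iff_isPushout.mp q2
  have hsq : EtMil.IsFibreSquare P B A C := ⟨h.surj, fun b a hab => by
    obtain ⟨p, hb, ha⟩ := h.glue b a hab
    exact ⟨p, ⟨hb, ha⟩, fun q hq => h.inj q p (hq.1.trans hb.symm) (hq.2.trans ha.symm)⟩⟩
  have : Algebra.FiniteType B B' := h1
  have : Algebra.FiniteType A A' := h2
  have : Algebra.FiniteType B (B ⊗[P] P') :=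
    Algebra.FiniteType.equiv ‹Algebra.FiniteType B B'› (Algebra.IsPushout.equiv P B P' B').symm
  have : Algebra.FiniteType A (A ⊗[P] P') :=
    Algebra.FiniteType.equiv ‹Algebra.FiniteType A A'› (Algebra.IsPushout.equiv P A P' A').symm
  exact EtMilLib.finiteType_of_baseChange hsq (D' := P')

/-- A square covered by affine charts with cartesian sections is cartesian. -/
theorem isPullback_of_charts' {U T X W : Scheme.{u}} {a' : U ⟶ T} {gU : U ⟶ X} {k : T ⟶ W}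
    {a : X ⟶ W} (w : a' ≫ k = gU ≫ a) [IsAffineHom a'] [IsAffineHom a] {ι : Type u}
    (O : ι → W.Opens) (hO : ∀ i, IsAffineOpen (O i)) (P : ι → T.Opens) (hP : ∀ i, IsAffineOpen (P i))
    (hPO : ∀ i, P i ≤ k ⁻¹ᵁ O i) (hsup : ⨆ i, P i = ⊤)
    (e : ∀ i, a' ⁻¹ᵁ P i ≤ gU ⁻¹ᵁ a ⁻¹ᵁ O i)
    (hp : ∀ i, IsPushout (k.appLE (O i) (P i) (hPO i)) (a.appLE (O i) (a ⁻¹ᵁ O i) le_rfl)
      (a'.appLE (P i) (a' ⁻¹ᵁ P i) le_rfl) (gU.appLE (a ⁻¹ᵁ O i) (a' ⁻¹ᵁ P i) (e i))) :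
    IsPullback a' gU k a := by
  let u := pullback.lift a' gU w
  let r := pullback.fst k a
  let s := pullback.snd k a
  have : IsAffineHom r := MorphismProperty.pullback_fst _ _ ‹_›
  have hle : ∀ i, r ⁻¹ᵁ P i ≤ s ⁻¹ᵁ a ⁻¹ᵁ O i := fun i => by
    rw [← Scheme.Hom.comp_preimage, ← pullback.condition, Scheme.Hom.comp_preimage]
    exact r.preimage_mono (hPO i)
  have hQ : ∀ i, r ⁻¹ᵁ P i = r ⁻¹ᵁ P i ⊓ s ⁻¹ᵁ a ⁻¹ᵁ O i := fun i =>
    (inf_eq_left.mpr (hle i)).symm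
  have hu : ∀ i, u ⁻¹ᵁ r ⁻¹ᵁ P i = a' ⁻¹ᵁ P i := fun i => by
    rw [← Scheme.Hom.comp_preimage, pullback.lift_fst]
  have : IsIso u := by
    refine isIso_of_affine_cover u (fun i => r ⁻¹ᵁ P i) (fun i => (hP i).preimage r) ?_
      (fun i => hu i ▸ (hP i).preimage a') fun i => ?_
    · refine top_le_iff.mp fun p _ => Opens.mem_iSup.mpr ?_
      obtain ⟨i, hi⟩ := Opens.mem_iSup.mp (hsup.ge (show r p ∈ (⊤ : T.Opens) from trivial))
      exact ⟨i, hi⟩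
    have e₀ : a' ⁻¹ᵁ P i ≤ u ⁻¹ᵁ r ⁻¹ᵁ P i := (hu i).ge
    have hR := isPushout_appLE (IsPullback.of_hasPullback k a) (hO i) (hP i) ((hO i).preimage a)
      (hPO i) le_rfl (hQ i) le_rfl (hle i)
    have h1 : r.appLE _ (r ⁻¹ᵁ P i) le_rfl ≫ u.appLE _ _ e₀ = a'.appLE (P i) _ le_rfl := by
      rw [Scheme.Hom.appLE_comp_appLE]
      simp only [u, r, pullback.lift_fst]
    have h2 : s.appLE _ (r ⁻¹ᵁ P i) (hle i) ≫ u.appLE _ _ e₀ =
        gU.appLE (a ⁻¹ᵁ O i) _ (e i) := by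
      rw [Scheme.Hom.appLE_comp_appLE]
      simp only [u, s, pullback.lift_snd]
    have key : u.appLE _ _ e₀ = (hR.isoIsPushout _ _ (hp i)).hom := hR.hom_ext
      (h1.trans (IsPushout.inl_isoIsPushout_hom ..).symm)
      (h2.trans (IsPushout.inr_isoIsPushout_hom ..).symm)
    have hi : IsIso (u.appLE _ _ e₀) := key ▸ inferInstance
    have gen : ∀ (V : U.Opens) (hV : V ≤ u ⁻¹ᵁ r ⁻¹ᵁ P i), u ⁻¹ᵁ r ⁻¹ᵁ P i = V →
        IsIso (u.appLE _ V hV) → IsIso (u.app (r ⁻¹ᵁ P i)) := by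
      rintro V hV rfl h
      rwa [Scheme.Hom.appLE_eq_app] at h
    exact gen _ e₀ (hu i) hi
  exact IsPullback.of_iso_pullback ⟨w⟩ (asIso u) (pullback.lift_fst _ _ _) (pullback.lift_snd _ _ _)

theorem discrete_image {α β : Type*} [TopologicalSpace α] [TopologicalSpace β] {f : α → β}
    (hf : IsClosedMap f) {s : Set β} (hs : s ⊆ Set.range f) (hG : _root_.IsDiscrete (f ⁻¹' s)) :
    _root_.IsDiscrete s := by
  have := hG.to_subtype
  refine ⟨discreteTopology_iff_forall_isClosed.mpr fun A => ?_⟩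
  have h : A = s.restrictPreimage f '' (s.restrictPreimage f ⁻¹' A) := by
    refine (Set.image_preimage_eq _ fun b => ?_).symm
    obtain ⟨a, ha⟩ := hs b.2
    exact ⟨⟨a, show f a ∈ s from ha ▸ b.2⟩, Subtype.ext ha⟩
  rw [h]
  exact hf.restrictPreimage s _ (isClosed_discrete _)

variable {X Y Z X' Y' Z' : Scheme.{u}}

theorem exists_pushout_map {i : Z ⟶ X} [IsClosedImmersion i] {j : Z ⟶ Y} [IsIntegralHom j]
    (h3 : ∀ y : Y, ∃ U : X.Opens, IsAffineOpen U ∧ j ⁻¹' {y} ⊆ i ⁻¹' (U : Set X))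
    {i' : Z' ⟶ X'} {j' : Z' ⟶ Y'} {f : X' ⟶ X} {g : Y' ⟶ Y} {h : Z' ⟶ Z}
    (hX : IsPullback i' h f i) (hY : IsPullback j' h g j)
    [IsSeparated f] [LocallyQuasiFinite f] [LocallyOfFiniteType f]
    [IsSeparated g] [LocallyQuasiFinite g] [LocallyOfFiniteType g] :
    ∃ (W W' : Scheme.{u}) (a : X ⟶ W) (b : Y ⟶ W) (a' : X' ⟶ W') (b' : Y' ⟶ W') (k : W' ⟶ W),
      IsPushout i j a b ∧ IsPushout i' j' a' b' ∧ a' ≫ k = f ≫ a ∧ b' ≫ k = g ≫ b ∧
      IsSeparated k ∧ LocallyQuasiFinite k ∧ LocallyOfFiniteType k ∧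
      IsPullback a' f k a ∧ IsPullback b' g k b := by
  have : IsClosedImmersion i' := MorphismProperty.of_isPullback hX.flip ‹_›
  have : IsIntegralHom j' := MorphismProperty.of_isPullback hY.flip ‹_›
  have hc : ∀ y : Y, ∃ (O : X.Opens) (O' : Y.Opens), IsAffineOpen O ∧ IsAffineOpen O' ∧ y ∈ O' ∧
      i ⁻¹ᵁ O = j ⁻¹ᵁ O' := fun y => by
    obtain ⟨O, hO, hy⟩ := h3 y
    exact FlatMisc.PushoutCovers.exists_cover_integral i j y hO hy
  have h3' : ∀ v : Y', ∃ U : X'.Opens, IsAffineOpen U ∧ j' ⁻¹' {v} ⊆ i' ⁻¹' (U : Set X') :=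
    exists_cover_lqf h3 hX.w hY.w
  have hc' : ∀ v : Y', ∃ (O : X'.Opens) (O' : Y'.Opens), IsAffineOpen O ∧ IsAffineOpen O' ∧ v ∈ O' ∧
      i' ⁻¹ᵁ O = j' ⁻¹ᵁ O' := fun v => by
    obtain ⟨O, hO, hy⟩ := h3' v
    exact FlatMisc.PushoutCovers.exists_cover_integral i' j' v hO hy
  obtain ⟨W, a, b, hpo, hsh⟩ := StdRinged.exists_pushout i j hc
  obtain ⟨-, hb, hai, hsurj⟩ := StdPushout.props i j hc hpo
  obtain ⟨T, a', b', hT, hTsh⟩ := StdRinged.exists_pushout i' j' hc'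
  obtain ⟨-, hb', hai', hsurj'⟩ := StdPushout.props i' j' hc' hT
  have := hb; have := hai; have := hb'; have := hai'
  let k : T ⟶ W := hT.desc (f ≫ a) (g ≫ b) (by rw [reassoc_of% hX.w, reassoc_of% hY.w, hpo.w])
  have wa : a' ≫ k = f ≫ a := hT.inl_desc _ _ _
  have wb : b' ≫ k = g ≫ b := hT.inr_desc _ _ _
  let ι := {p : W.affineOpens × T.affineOpens // (p.2 : T.Opens) ≤ k ⁻¹ᵁ p.1}
  let O : ι → W.Opens := fun p => p.1.1
  let P : ι → T.Opens := fun p => p.1.2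
  have hsup : ⨆ p, P p = ⊤ := top_le_iff.mp fun t _ => by
    obtain ⟨O₁, hO₁, htO, -⟩ := exists_isAffineOpen_mem_and_subset
      (show k t ∈ (⊤ : W.Opens) from trivial)
    obtain ⟨P₁, hP₁, htP, hPO⟩ := exists_isAffineOpen_mem_and_subset (show t ∈ k ⁻¹ᵁ O₁ from htO)
    exact Opens.mem_iSup.mpr ⟨⟨(⟨O₁, hO₁⟩, ⟨P₁, hP₁⟩), hPO⟩, htP⟩
  have ea : ∀ p, a' ⁻¹ᵁ P p ≤ f ⁻¹ᵁ a ⁻¹ᵁ O p := fun p => by
    rw [← Scheme.Hom.comp_preimage f a, ← wa, Scheme.Hom.comp_preimage]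
    exact a'.preimage_mono p.2
  have eb : ∀ p, b' ⁻¹ᵁ P p ≤ g ⁻¹ᵁ b ⁻¹ᵁ O p := fun p => by
    rw [← Scheme.Hom.comp_preimage g b, ← wb, Scheme.Hom.comp_preimage]
    exact b'.preimage_mono p.2
  have main : ∀ p,
      IsPushout (k.appLE (O p) (P p) p.2) (a.appLE (O p) (a ⁻¹ᵁ O p) le_rfl)
        (a'.appLE (P p) (a' ⁻¹ᵁ P p) le_rfl) (f.appLE (a ⁻¹ᵁ O p) (a' ⁻¹ᵁ P p) (ea p)) ∧
      IsPushout (k.appLE (O p) (P p) p.2) (b.appLE (O p) (b ⁻¹ᵁ O p) le_rfl)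
        (b'.appLE (P p) (b' ⁻¹ᵁ P p) le_rfl) (g.appLE (b ⁻¹ᵁ O p) (b' ⁻¹ᵁ P p) (eb p)) ∧
      (k.appLE (O p) (P p) p.2).hom.FiniteType := fun p => by
    have hO : IsAffineOpen (O p) := p.1.1.2
    have hP : IsAffineOpen (P p) := p.1.2.2
    letI := (b.appLE (O p) (b ⁻¹ᵁ O p) le_rfl).hom.toAlgebra
    letI := (a.appLE (O p) (a ⁻¹ᵁ O p) le_rfl).hom.toAlgebra
    letI := (j.appLE (b ⁻¹ᵁ O p) (i ⁻¹ᵁ a ⁻¹ᵁ O p) (PinchLib.preimage_eq hsh (O p)).le).hom.toAlgebra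
    letI := (i.appLE (a ⁻¹ᵁ O p) (i ⁻¹ᵁ a ⁻¹ᵁ O p) le_rfl).hom.toAlgebra
    letI := ((i ≫ a).appLE (O p) (i ⁻¹ᵁ a ⁻¹ᵁ O p) le_rfl).hom.toAlgebra
    letI := (b'.appLE (P p) (b' ⁻¹ᵁ P p) le_rfl).hom.toAlgebra
    letI := (a'.appLE (P p) (a' ⁻¹ᵁ P p) le_rfl).hom.toAlgebra
    letI := (j'.appLE (b' ⁻¹ᵁ P p) (i' ⁻¹ᵁ a' ⁻¹ᵁ P p)
      (PinchLib.preimage_eq hTsh (P p)).le).hom.toAlgebra
    letI := (i'.appLE (a' ⁻¹ᵁ P p) (i' ⁻¹ᵁ a' ⁻¹ᵁ P p) le_rfl).hom.toAlgebra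
    letI := ((i' ≫ a').appLE (P p) (i' ⁻¹ᵁ a' ⁻¹ᵁ P p) le_rfl).hom.toAlgebra
    obtain ⟨_, _, hs⟩ := PinchLib.isFibreSquare hsh (O p) (hO.preimage a)
    have hF := IsFib.of_isFibreSquare hs
    obtain ⟨_, _, hs'⟩ := PinchLib.isFibreSquare hTsh (P p) (hP.preimage a')
    have hF' := IsFib.of_isFibreSquare hs'
    let C' : Z'.Opens := i' ⁻¹ᵁ a' ⁻¹ᵁ P p
    have hC : C' ≤ h ⁻¹ᵁ i ⁻¹ᵁ a ⁻¹ᵁ O p := by
      show i' ⁻¹ᵁ a' ⁻¹ᵁ P p ≤ _
      rw [← Scheme.Hom.comp_preimage h i, ← hX.w, Scheme.Hom.comp_preimage]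
      exact i'.preimage_mono (ea p)
    have eC : C' ≤ j' ⁻¹ᵁ b' ⁻¹ᵁ P p := (PinchLib.preimage_eq hTsh (P p)).le
    have hC2 : C' = j' ⁻¹ᵁ (b' ⁻¹ᵁ P p) ⊓ h ⁻¹ᵁ i ⁻¹ᵁ a ⁻¹ᵁ O p :=
      le_antisymm (le_inf eC hC) (inf_le_left.trans (PinchLib.preimage_eq hTsh (P p)).ge)
    have hA := isPushout_appLE hX (hO.preimage a) (hP.preimage a') ((hO.preimage a).preimage i)
      (ea p) le_rfl (inf_eq_left.mpr hC).symm le_rfl hC
    have hB := isPushout_appLE hY (hO.preimage b) (hP.preimage b') ((hO.preimage a).preimage i)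
      (eb p) (PinchLib.preimage_eq hsh (O p)).le hC2 eC hC
    obtain ⟨r1, r2, -, -⟩ := milnor_glue (gP := k.appLE (O p) (P p) p.2) hF hF'
      (by
        show b.appLE (O p) (b ⁻¹ᵁ O p) le_rfl ≫ g.appLE (b ⁻¹ᵁ O p) (b' ⁻¹ᵁ P p) (eb p) =
          k.appLE (O p) (P p) p.2 ≫ b'.appLE (P p) (b' ⁻¹ᵁ P p) le_rfl
        rw [Scheme.Hom.appLE_comp_appLE, Scheme.Hom.appLE_comp_appLE]
        simp only [wb])
      (by
        show a.appLE (O p) (a ⁻¹ᵁ O p) le_rfl ≫ f.appLE (a ⁻¹ᵁ O p) (a' ⁻¹ᵁ P p) (ea p) =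
          k.appLE (O p) (P p) p.2 ≫ a'.appLE (P p) (a' ⁻¹ᵁ P p) le_rfl
        rw [Scheme.Hom.appLE_comp_appLE, Scheme.Hom.appLE_comp_appLE]
        simp only [wa])
      hB.flip hA.flip
    exact ⟨r2.flip, r1.flip, finiteType_glue hF r1 r2
      (g.finiteType_appLE (hO.preimage b) (hP.preimage b') _)
      (f.finiteType_appLE (hO.preimage a) (hP.preimage a') _)⟩
  have hlft : LocallyOfFiniteType k :=
    IsZariskiLocalAtSource.of_iSup_eq_top (P := @LocallyOfFiniteType) P hsup fun p => by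
      have : IsAffine (O p).toScheme := p.1.1.2
      have : IsAffine (P p).toScheme := p.1.2.2
      have hh : LocallyOfFiniteType (k.resLE (O p) (P p) p.2) := by
        rw [HasRingHomProperty.iff_of_isAffine (P := @LocallyOfFiniteType)]
        have : (RingHom.toMorphismProperty RingHom.FiniteType).RespectsIso :=
          RingHom.toMorphismProperty_respectsIso_iff.mp RingHom.finiteType_respectsIso
        exact ((RingHom.toMorphismProperty RingHom.FiniteType).arrow_mk_iso_iff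
          (arrowResLEAppIso k (O p) (P p) p.2)).mpr (main p).2.2
      rw [← Scheme.Hom.resLE_comp_ι k p.2]
      infer_instance
  have hPa : IsPullback a' f k a :=
    isPullback_of_charts' wa O (fun p => p.1.1.2) P (fun p => p.1.2.2) (fun p => p.2) hsup ea
      fun p => (main p).1
  have hPb : IsPullback b' g k b :=
    isPullback_of_charts' wb O (fun p => p.1.1.2) P (fun p => p.1.2.2) (fun p => p.2) hsup eb
      fun p => (main p).2.1
  refine ⟨W, T, a, b, a', b', k, hpo, hT, wa, wb, ?_, ?_, hlft, hPa, hPb⟩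
  · exact (S7181.result i' j' h3' a' b' hT (f ≫ a) (g ≫ b) k wa wb).1 ⟨inferInstance, inferInstance⟩
  · rw [locallyQuasiFinite_iff_isDiscrete_preimage_singleton]
    intro w
    have lift_b : ∀ t y, k t = b y → ∃ v, b' v = t ∧ g v = y := fun t y e => by
      obtain ⟨q, hq₁, hq₂⟩ := Scheme.Pullback.exists_preimage_pullback (f := k) (g := b) t y e
      refine ⟨hPb.isoPullback.inv q, ?_, ?_⟩
      · rw [← Scheme.Hom.comp_apply, hPb.isoPullback_inv_fst]; exact hq₁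
      · rw [← Scheme.Hom.comp_apply, hPb.isoPullback_inv_snd]; exact hq₂
    by_cases hw : w ∈ Set.range b
    · obtain ⟨y, rfl⟩ := hw
      refine discrete_image b'.isClosedMap (fun t ht => ?_) ?_
      · obtain ⟨v, hv, -⟩ := lift_b t y ht
        exact ⟨v, hv⟩
      · have : b' ⁻¹' (k ⁻¹' {b y}) = g ⁻¹' {y} := Set.ext fun v => by
          show k (b' v) = b y ↔ g v = y
          rw [← Scheme.Hom.comp_apply, wb, Scheme.Hom.comp_apply, b.isClosedEmbedding.injective.eq_iff]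
        rw [this]
        exact g.isDiscrete_preimage_singleton y
    · have hone : ∀ x x', a x = w → a x' = w → x = x' := by
        intro x x' hx hx'
        have key : ∀ x x', a x = w → a x' = w → ∀ U : X.Opens, x ∈ U → x' ∈ U := by
          intro x x' hx hx' U hxU
          have hxi : x ∉ Set.range i := fun ⟨z, hz⟩ => hw ⟨j z, by
            rw [← hx, ← hz, ← Scheme.Hom.comp_apply, ← hpo.w, Scheme.Hom.comp_apply]⟩
          let U' : X.Opens := U ⊓ ⟨(Set.range i)ᶜ, i.isClosedEmbedding.isClosed_range.isOpen_compl⟩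
          obtain ⟨O₁, h₁, -⟩ := FlatMisc.SchemePushout.exists_open i j
            (StdRinged.isPushout_lrs hsh) U' ⊥ (by
              ext z
              exact iff_of_false (fun h => h.2 ⟨z, rfl⟩) (fun h => h))
          have hmem : ∀ p, a p ∈ O₁ ↔ p ∈ U' := fun p => SetLike.ext_iff.mp h₁ p
          exact ((hmem x').mp (hx'.symm ▸ hx ▸ (hmem x).mpr ⟨hxU, hxi⟩)).1
        exact (Inseparable.eq (inseparable_iff_forall_isOpen.mpr fun s hs =>
          ⟨key x x' hx hx' ⟨s, hs⟩, key x' x hx' hx ⟨s, hs⟩⟩))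
      have hsub : k ⁻¹' {w} ⊆ Set.range a' := fun t ht => by
        rcases hsurj' t with ⟨x, rfl⟩ | ⟨v, rfl⟩
        · exact ⟨x, rfl⟩
        · refine absurd ⟨g v, ?_⟩ hw
          rw [← Scheme.Hom.comp_apply, ← wb, Scheme.Hom.comp_apply]
          exact ht
      have hG : _root_.IsDiscrete ((a' ≫ k) ⁻¹' {w}) := by
        rw [wa]
        rcases Set.eq_empty_or_nonempty (a ⁻¹' {w}) with h0 | ⟨x₀, hx₀⟩
        · have : (f ≫ a) ⁻¹' {w} = ∅ := Set.eq_empty_of_forall_notMem fun p hp =>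
            (h0.le (show f p ∈ a ⁻¹' {w} from hp)).elim
          rw [this]
          exact (Set.subsingleton_empty).isDiscrete
        · have : (f ≫ a) ⁻¹' {w} = f ⁻¹' {x₀} := Set.ext fun p =>
            ⟨fun hp => hone (f p) x₀ hp hx₀, fun hp => show a (f p) = w by
              rw [show f p = x₀ from hp]; exact hx₀⟩
          rw [this]
          exact f.isDiscrete_preimage_singleton x₀
      exact discrete_image a'.isClosedMap hsub hG

end Groth.Agent.FEtPush
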