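import Groth.Agent.PinchLib.FibSq
import Groth.Agent.EtMilLib.Glue
import Groth.Agent.EtMilLib.AlgDescent
import Mathlib.RingTheory.RingHom.Etale
import Mathlib.RingTheory.RingHom.Finite

/-!
# Gluing finite étale algebras along a Milnor square
-/

universe u

open CategoryTheory CategoryTheory.Limits TensorProduct

namespace Groth.Agent.FEtPush

open PinchLib

section Alg

variable {B' B A' A : Type u} [CommRing B'] [CommRing B] [CommRing A'] [CommRing A]
  [Algebra B' B] [Algebra B' A'] [Algebra B A] [Algebra A' A] [Algebra B' A]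
  [IsScalarTower B' B A] [IsScalarTower B' A' A]
  {D' D E F : Type u} [CommRing D'] [CommRing D] [CommRing E] [CommRing F]
  [Algebra B' D'] [Algebra B D] [Algebra A' E] [Algebra A F]
  [Algebra D' D] [Algebra D' E] [Algebra D F] [Algebra E F]
  [Algebra B' D] [IsScalarTower B' B D] [IsScalarTower B' D' D]
  [Algebra B' E] [IsScalarTower B' A' E] [IsScalarTower B' D' E]
  [Algebra B F] [IsScalarTower B A F] [IsScalarTower B D F]
  [Algebra A' F] [IsScalarTower A' A F] [IsScalarTower A' E F]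
  [Algebra.IsPushout B A D F] [Algebra.IsPushout A' A E F]

theorem isPushout_pair (hsq : EtMil.IsFibreSquare B' B A' A)
    (inj : ∀ p q : D', algebraMap D' D p = algebraMap D' D q →
      algebraMap D' E p = algebraMap D' E q → p = q)
    (glu : ∀ (d : D) (e : E), algebraMap D F d = algebraMap E F e →
      ∃ p, algebraMap D' D p = d ∧ algebraMap D' E p = e)
    (w : ∀ p : D', algebraMap D F (algebraMap D' D p) = algebraMap E F (algebraMap D' E p)) :
    Algebra.IsPushout B' B D' D ∧ Algebra.IsPushout B' A' D' E := by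
  let e₁ : A ⊗[B] D ≃ₗ[A] F := (Algebra.IsPushout.out (R := B) (S := A) (R' := D) (S' := F)).equiv
  let e₂ : A ⊗[A'] E ≃ₗ[A] F := (Algebra.IsPushout.out (R := A') (S := A) (R' := E) (S' := F)).equiv
  have he₁ : ∀ d, e₁ ((1 : A) ⊗ₜ d) = algebraMap D F d := fun d => by
    simp [e₁, IsBaseChange.equiv_tmul]
  have he₂ : ∀ e, e₂ ((1 : A) ⊗ₜ e) = algebraMap E F e := fun e => by
    simp [e₂, IsBaseChange.equiv_tmul]
  let φ := e₁ ≪≫ₗ e₂.symm
  have hφ : ∀ d e, φ ((1 : A) ⊗ₜ d) = (1 : A) ⊗ₜ e ↔ algebraMap D F d = algebraMap E F e :=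
    fun d e => by
      show e₂.symm (e₁ _) = _ ↔ _
      rw [LinearEquiv.symm_apply_eq, he₁, he₂]
  let ψ₀ : D' →ₗ[B'] D × E :=
    ((IsScalarTower.toAlgHom B' D' D).toLinearMap).prod (IsScalarTower.toAlgHom B' D' E).toLinearMap
  let ψ : D' →ₗ[B'] EtMil.glue B' φ := ψ₀.codRestrict _ fun p => (hφ _ _).mpr (w p)
  have hψ : Function.Bijective ψ := by
    refine ⟨fun p q h => ?_, fun ⟨⟨d, e⟩, h⟩ => ?_⟩
    · have := congrArg Subtype.val h
      exact inj p q (congrArg Prod.fst this) (congrArg Prod.snd this)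
    · obtain ⟨p, hp, hp'⟩ := glu d e ((hφ _ _).mp h)
      exact ⟨p, Subtype.ext (Prod.ext hp hp')⟩
  let eψ := LinearEquiv.ofBijective ψ hψ
  refine ⟨⟨?_⟩, ⟨?_⟩⟩
  · refine IsBaseChange.of_equiv ((eψ.baseChange B' B D' (EtMil.glue B' φ)).trans
      (LinearEquiv.ofBijective _ (EtMilLib.liftBaseChange_glueFst_bijective hsq φ))) fun p => ?_
    simp [eψ, ψ, ψ₀, EtMil.glueFst]
  · refine IsBaseChange.of_equiv ((eψ.baseChange B' A' D' (EtMil.glue B' φ)).trans
      (LinearEquiv.ofBijective _ (EtMilLib.liftBaseChange_glueSnd_bijective hsq φ))) fun p => ?_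
    simp [eψ, ψ, ψ₀, EtMil.glueSnd]

end Alg

variable {P B A C P' B' A' C' : CommRingCat.{u}} {pB : P ⟶ B} {pA : P ⟶ A} {fB : B ⟶ C} {fA : A ⟶ C}
  {pB' : P' ⟶ B'} {pA' : P' ⟶ A'} {fB' : B' ⟶ C'} {fA' : A' ⟶ C'}
  {gP : P ⟶ P'} {gB : B ⟶ B'} {gA : A ⟶ A'} {gC : C ⟶ C'}

/-- A fibre square of algebras cartesian over the two sides of a Milnor square is cartesian
throughout; finite étaleness descends. -/
theorem milnor_glue (h : IsFib pB pA fB fA) (h' : IsFib pB' pA' fB' fA')
    (wB : pB ≫ gB = gP ≫ pB') (wA : pA ≫ gA = gP ≫ pA')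
    (hB : IsPushout fB gB gC fB') (hA : IsPushout fA gA gC fA') :
    IsPushout pB gP gB pB' ∧ IsPushout pA gP gA pA' ∧
      (gB.hom.Finite → gA.hom.Finite → gP.hom.Finite) ∧
      (gB.hom.Etale → gA.hom.Etale → gP.hom.Etale) := by
  algebraize [pB.hom, pA.hom, fB.hom, fA.hom, (pB ≫ fB).hom, pB'.hom, pA'.hom, fB'.hom, fA'.hom,
    gP.hom, gB.hom, gA.hom, gC.hom, (gP ≫ pB').hom, (gP ≫ pA').hom, (gB ≫ fB').hom, (gA ≫ fA').hom]
  have t1 : IsScalarTower P B C := IsScalarTower.of_algebraMap_eq' rfl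
  have t2 : IsScalarTower P A C := IsScalarTower.of_algebraMap_eq' (congrArg CommRingCat.Hom.hom h.w)
  have t3 : IsScalarTower P B B' := IsScalarTower.of_algebraMap_eq' (congrArg CommRingCat.Hom.hom wB).symm
  have t4 : IsScalarTower P P' B' := IsScalarTower.of_algebraMap_eq' rfl
  have t5 : IsScalarTower P A A' := IsScalarTower.of_algebraMap_eq' (congrArg CommRingCat.Hom.hom wA).symm
  have t6 : IsScalarTower P P' A' := IsScalarTower.of_algebraMap_eq' rfl
  have t7 : IsScalarTower B C C' := IsScalarTower.of_algebraMap_eq' (congrArg CommRingCat.Hom.hom hB.w).symm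
  have t8 : IsScalarTower B B' C' := IsScalarTower.of_algebraMap_eq' rfl
  have t9 : IsScalarTower A C C' := IsScalarTower.of_algebraMap_eq' (congrArg CommRingCat.Hom.hom hA.w).symm
  have t10 : IsScalarTower A A' C' := IsScalarTower.of_algebraMap_eq' rfl
  have p1 : Algebra.IsPushout B C B' C' := CommRingCat.isPushout_iff_isPushout.mp hB
  have p2 : Algebra.IsPushout A C A' C' := CommRingCat.isPushout_iff_isPushout.mp hA
  have hsq : EtMil.IsFibreSquare P B A C := ⟨h.surj, fun b a hab => by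
    obtain ⟨p, hb, ha⟩ := h.glue b a hab
    exact ⟨p, ⟨hb, ha⟩, fun q hq => h.inj q p (hq.1.trans hb.symm) (hq.2.trans ha.symm)⟩⟩
  obtain ⟨q1, q2⟩ := isPushout_pair hsq h'.inj h'.glue h'.w_apply
  refine ⟨CommRingCat.isPushout_of_isPushout P B P' B', CommRingCat.isPushout_of_isPushout P A P' A',
    fun h1 h2 => ?_, fun h1 h2 => ?_⟩
  · have : Module.Finite B B' := h1
    have : Module.Finite A A' := h2
    have : Module.Finite B (B ⊗[P] P') :=
      Module.Finite.equiv (Algebra.IsPushout.equiv P B P' B').toLinearEquiv.symm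
    have : Module.Finite A (A ⊗[P] P') :=
      Module.Finite.equiv (Algebra.IsPushout.equiv P A P' A').toLinearEquiv.symm
    exact EtMilLib.finite_of_baseChange hsq (L := P')
  · have : Algebra.Etale B B' := RingHom.etale_algebraMap.mp h1
    have : Algebra.Etale A A' := RingHom.etale_algebraMap.mp h2
    have : Algebra.Etale B (B ⊗[P] P') := Algebra.Etale.of_equiv (Algebra.IsPushout.equiv P B P' B').symm
    have : Algebra.Etale A (A ⊗[P] P') := Algebra.Etale.of_equiv (Algebra.IsPushout.equiv P A P' A').symm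
    exact RingHom.etale_algebraMap.mpr (EtMilLib.etale_of_baseChange hsq (D' := P'))

end Groth.Agent.FEtPush
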