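import Groth.Agent.FEtPush.Ring
import Groth.Agent.PinchLib.StdRinged
import Groth.Agent.PinchLib.StdPushout
import Groth.Agent.PinchLib.SchemePushout
import Groth.Agent.FlatMisc.PushoutCovers
import Mathlib.AlgebraicGeometry.Morphisms.Etale
import Mathlib.AlgebraicGeometry.Morphisms.Finite

/-!
# Finite étale covers glue along pushouts
-/

universe u

open CategoryTheory CategoryTheory.Limits AlgebraicGeometry TopologicalSpace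

namespace Groth.Agent.FEtPush

open PinchLib

set_option linter.style.haveILetI false

/-- An affine pullback square gives a pushout of rings on affine opens. -/
theorem isPushout_appLE {Q X T S : Scheme.{u}} {fst : Q ⟶ T} {snd : Q ⟶ X} {t : T ⟶ S} {g : X ⟶ S}
    (h : IsPullback fst snd t g) {US : S.Opens} {UT : T.Opens} {UX : X.Opens} (hUS : IsAffineOpen US)
    (hUT : IsAffineOpen UT) (hUX : IsAffineOpen UX) (eT : UT ≤ t ⁻¹ᵁ US) (eX : UX ≤ g ⁻¹ᵁ US)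
    {UQ : Q.Opens} (hUQ : UQ = fst ⁻¹ᵁ UT ⊓ snd ⁻¹ᵁ UX) (e₁ : UQ ≤ fst ⁻¹ᵁ UT)
    (e₂ : UQ ≤ snd ⁻¹ᵁ UX) :
    IsPushout (t.appLE US UT eT) (g.appLE US UX eX) (fst.appLE UT UQ e₁) (snd.appLE UX UQ e₂) :=
  (isIso_pushoutSection_iff h eX eT hUQ).mp
    (isIso_pushoutSection_of_isAffineOpen h eX eT hUQ hUS hUX hUT)

theorem appTop_restrict {Q : MorphismProperty CommRingCat.{u}} [Q.RespectsIso] {X Y : Scheme.{u}}
    (f : X ⟶ Y) (U : Y.Opens) : Q (f ∣_ U).appTop ↔ Q (f.app U) := by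
  have key : ∀ (O : Y.Opens) (V : X.Opens) (e' : V = f ⁻¹ᵁ O), O = U →
      (Q (f.app O ≫ X.presheaf.map (eqToHom e').op) ↔ Q (f.app U)) := fun O V e' e => by
    subst e e'
    rw [eqToHom_refl, op_id, X.presheaf.map_id, Category.comp_id]
  rw [morphismRestrict_appTop]
  exact key _ _ _ (Scheme.Opens.ι_image_top U)

theorem isIso_of_affine_cover {X Y : Scheme.{u}} (f : X ⟶ Y) {ι : Type u} (O : ι → Y.Opens)
    (hO : ∀ k, IsAffineOpen (O k)) (hsup : ⨆ k, O k = ⊤)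
    (haff : ∀ k, IsAffineOpen (f ⁻¹ᵁ O k)) (hiso : ∀ k, IsIso (f.app (O k))) : IsIso f := by
  refine (HasAffineProperty.iff_of_iSup_eq_top (P := MorphismProperty.isomorphisms Scheme)
    (fun k => (⟨O k, hO k⟩ : Y.affineOpens)) hsup).mpr fun k => ⟨haff k, ?_⟩
  exact (appTop_restrict (Q := MorphismProperty.isomorphisms CommRingCat) f (O k)).mpr (hiso k)

/-- A square over the charts of a cover with cartesian sections is cartesian. -/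
theorem isPullback_of_charts {U T X W : Scheme.{u}} {a' : U ⟶ T} {gU : U ⟶ X} {k : T ⟶ W} {a : X ⟶ W}
    (w : a' ≫ k = gU ≫ a) [IsAffineHom gU] {ι : Type u} (O : ι → W.Opens)
    (hO : ∀ i, IsAffineOpen (O i)) (hsup : ⨆ i, O i = ⊤) (hk : ∀ i, IsAffineOpen (k ⁻¹ᵁ O i))
    (ha : ∀ i, IsAffineOpen (a ⁻¹ᵁ O i))
    (e : ∀ i, gU ⁻¹ᵁ a ⁻¹ᵁ O i ≤ a' ⁻¹ᵁ k ⁻¹ᵁ O i)
    (hp : ∀ i, IsPushout (k.appLE (O i) (k ⁻¹ᵁ O i) le_rfl) (a.appLE (O i) (a ⁻¹ᵁ O i) le_rfl)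
      (a'.appLE (k ⁻¹ᵁ O i) (gU ⁻¹ᵁ a ⁻¹ᵁ O i) (e i))
      (gU.appLE (a ⁻¹ᵁ O i) (gU ⁻¹ᵁ a ⁻¹ᵁ O i) le_rfl)) :
    IsPullback a' gU k a := by
  let u := pullback.lift a' gU w
  have : IsAffineHom k := isAffineHom_of_forall_exists_isAffineOpen k fun y => by
    obtain ⟨i, hi⟩ := Opens.mem_iSup.mp (hsup.ge (show y ∈ (⊤ : W.Opens) from trivial))
    exact ⟨O i, hi, hO i, hk i⟩
  let s := pullback.snd k a
  have : IsAffineHom s := MorphismProperty.pullback_snd _ _ ‹_›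
  let Q := fun i => s ⁻¹ᵁ a ⁻¹ᵁ O i
  have hQ : ∀ i, Q i = pullback.fst k a ⁻¹ᵁ k ⁻¹ᵁ O i ⊓ s ⁻¹ᵁ a ⁻¹ᵁ O i := fun i => by
    rw [← Scheme.Hom.comp_preimage, pullback.condition, Scheme.Hom.comp_preimage]
    exact (inf_idem _).symm
  have hQa : ∀ i, IsAffineOpen (Q i) := fun i => (ha i).preimage s
  have hu : ∀ i, u ⁻¹ᵁ Q i = gU ⁻¹ᵁ a ⁻¹ᵁ O i := fun i => by
    rw [← Scheme.Hom.comp_preimage, pullback.lift_snd]
  have : IsIso u := by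
    refine isIso_of_affine_cover u Q hQa ?_ (fun i => hu i ▸ (ha i).preimage gU) fun i => ?_
    · refine top_le_iff.mp fun p _ => Opens.mem_iSup.mpr ?_
      obtain ⟨i, hi⟩ := Opens.mem_iSup.mp (hsup.ge (show a (s p) ∈ (⊤ : W.Opens) from trivial))
      exact ⟨i, hi⟩
    have e₀ : gU ⁻¹ᵁ a ⁻¹ᵁ O i ≤ u ⁻¹ᵁ Q i := (hu i).ge
    have hP := isPushout_appLE (IsPullback.of_hasPullback k a) (hO i) (hk i) (ha i) le_rfl le_rfl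
      (hQ i) ((hQ i).le.trans inf_le_left) le_rfl
    have h1 : (pullback.fst k a).appLE _ (Q i) ((hQ i).le.trans inf_le_left) ≫
        u.appLE (Q i) _ e₀ = a'.appLE _ _ (e i) := by
      rw [Scheme.Hom.appLE_comp_appLE]
      simp only [u, pullback.lift_fst]
    have h2 : s.appLE _ (Q i) le_rfl ≫ u.appLE (Q i) _ e₀ = gU.appLE (a ⁻¹ᵁ O i) _ le_rfl := by
      rw [Scheme.Hom.appLE_comp_appLE]
      simp only [u, s, pullback.lift_snd]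
    have key : u.appLE (Q i) _ e₀ = (hP.isoIsPushout _ _ (hp i)).hom := hP.hom_ext
      (h1.trans (IsPushout.inl_isoIsPushout_hom ..).symm)
      (h2.trans (IsPushout.inr_isoIsPushout_hom ..).symm)
    have hi : IsIso (u.appLE (Q i) _ e₀) := key ▸ inferInstance
    have gen : ∀ (V : U.Opens) (hV : V ≤ u ⁻¹ᵁ Q i), u ⁻¹ᵁ Q i = V →
        IsIso (u.appLE (Q i) V hV) → IsIso (u.app (Q i)) := by
      rintro V hV rfl h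
      rwa [Scheme.Hom.appLE_eq_app] at h
    exact gen _ e₀ (hu i) hi
  exact IsPullback.of_iso_pullback ⟨w⟩ (asIso u) (pullback.lift_fst _ _ _) (pullback.lift_snd _ _ _)

variable {X Y Z W U V UZ : Scheme.{u}}

/-- Finite étale covers of the two pieces agreeing on the intersection glue to the pushout. -/
theorem exists_glue {i : Z ⟶ X} {j : Z ⟶ Y} [IsClosedImmersion i] [IsIntegralHom j]
    (h3 : ∀ y : Y, ∃ O : X.Opens, IsAffineOpen O ∧ j ⁻¹' {y} ⊆ i ⁻¹' (O : Set X))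
    {a : X ⟶ W} {b : Y ⟶ W} (hpo : IsPushout i j a b)
    (gU : U ⟶ X) [IsFinite gU] [Etale gU] (gV : V ⟶ Y) [IsFinite gV] [Etale gV]
    {gZ : UZ ⟶ Z} {iU : UZ ⟶ U} {jV : UZ ⟶ V} (hU : IsPullback iU gZ gU i)
    (hV : IsPullback jV gZ gV j) :
    ∃ (T : Scheme.{u}) (k : T ⟶ W) (a' : U ⟶ T) (b' : V ⟶ T), IsFinite k ∧ Etale k ∧
      IsPullback a' gU k a ∧ IsPullback b' gV k b := by
  have : IsClosedImmersion iU := MorphismProperty.of_isPullback hU.flip ‹_›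
  have : IsIntegralHom jV := MorphismProperty.of_isPullback hV.flip ‹_›
  have hc : ∀ y : Y, ∃ (O : X.Opens) (O' : Y.Opens), IsAffineOpen O ∧ IsAffineOpen O' ∧ y ∈ O' ∧
      i ⁻¹ᵁ O = j ⁻¹ᵁ O' := fun y => by
    obtain ⟨O, hO, hy⟩ := h3 y
    exact FlatMisc.PushoutCovers.exists_cover_integral i j y hO hy
  have hcT : ∀ v : V, ∃ (O : U.Opens) (O' : V.Opens), IsAffineOpen O ∧ IsAffineOpen O' ∧ v ∈ O' ∧
      iU ⁻¹ᵁ O = jV ⁻¹ᵁ O' := fun v => by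
    obtain ⟨O, hO, hy⟩ := h3 (gV v)
    refine FlatMisc.PushoutCovers.exists_cover_integral iU jV v (hO.preimage gU) fun z hz => ?_
    show gU (iU z) ∈ O
    rw [← Scheme.Hom.comp_apply, hU.w, Scheme.Hom.comp_apply]
    refine hy (?_ : j (gZ z) = gV v)
    rw [← Scheme.Hom.comp_apply, ← hV.w, Scheme.Hom.comp_apply, show jV z = v from hz]
  obtain ⟨-, hb, hai, hsurj⟩ := StdPushout.props i j hc hpo
  have hsh := StdRinged.isPushout_toSh hc hpo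
  obtain ⟨T, a', b', hT, hTsh⟩ := StdRinged.exists_pushout iU jV hcT
  obtain ⟨-, hb', hai', hsurj'⟩ := StdPushout.props iU jV hcT hT
  have := hb
  have := hai
  let k : T ⟶ W := hT.desc (gU ≫ a) (gV ≫ b) (by
    rw [reassoc_of% hU.w, reassoc_of% hV.w, hpo.w])
  have wa : a' ≫ k = gU ≫ a := hT.inl_desc _ _ _
  have wb : b' ≫ k = gV ≫ b := hT.inr_desc _ _ _
  have eqa : ∀ O : W.Opens, a' ⁻¹ᵁ k ⁻¹ᵁ O = gU ⁻¹ᵁ a ⁻¹ᵁ O := fun O => by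
    rw [← Scheme.Hom.comp_preimage, wa, Scheme.Hom.comp_preimage]
  have eqb : ∀ O : W.Opens, b' ⁻¹ᵁ k ⁻¹ᵁ O = gV ⁻¹ᵁ b ⁻¹ᵁ O := fun O => by
    rw [← Scheme.Hom.comp_preimage, wb, Scheme.Hom.comp_preimage]
  have eqz : ∀ O : W.Opens, i ⁻¹ᵁ a ⁻¹ᵁ O = j ⁻¹ᵁ b ⁻¹ᵁ O := fun O => by
    rw [← Scheme.Hom.comp_preimage, hpo.w, Scheme.Hom.comp_preimage]
  have hk : ∀ O : W.Opens, IsAffineOpen O → IsAffineOpen (k ⁻¹ᵁ O) := fun O hO => by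
    obtain ⟨O', hO', h1, h2⟩ := StdRinged.exists_affineOpen hTsh
      ((eqa O).symm ▸ (hO.preimage a).preimage gU) ((eqb O).symm ▸ (hO.preimage b).preimage gV)
      (by rw [← Scheme.Hom.comp_preimage, ← Scheme.Hom.comp_preimage jV, hT.w])
    convert hO' using 1
    refine Opens.ext (Set.ext fun p => ?_)
    rcases hsurj' p with ⟨x, rfl⟩ | ⟨x, rfl⟩
    · exact (SetLike.ext_iff.mp h1 x).symm
    · exact (SetLike.ext_iff.mp h2 x).symm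
  have : IsAffineHom k := ⟨hk⟩
  have main : ∀ O : W.Opens, IsAffineOpen O →
      IsPushout (k.appLE O (k ⁻¹ᵁ O) le_rfl) (a.appLE O (a ⁻¹ᵁ O) le_rfl)
        (a'.appLE (k ⁻¹ᵁ O) (gU ⁻¹ᵁ a ⁻¹ᵁ O) (eqa O).ge)
        (gU.appLE (a ⁻¹ᵁ O) (gU ⁻¹ᵁ a ⁻¹ᵁ O) le_rfl) ∧
      IsPushout (k.appLE O (k ⁻¹ᵁ O) le_rfl) (b.appLE O (b ⁻¹ᵁ O) le_rfl)
        (b'.appLE (k ⁻¹ᵁ O) (gV ⁻¹ᵁ b ⁻¹ᵁ O) (eqb O).ge)
        (gV.appLE (b ⁻¹ᵁ O) (gV ⁻¹ᵁ b ⁻¹ᵁ O) le_rfl) ∧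
      (k.app O).hom.Finite ∧ (k.app O).hom.Etale := fun O hO => by
    letI := (b.appLE O (b ⁻¹ᵁ O) le_rfl).hom.toAlgebra
    letI := (a.appLE O (a ⁻¹ᵁ O) le_rfl).hom.toAlgebra
    letI := (j.appLE (b ⁻¹ᵁ O) (i ⁻¹ᵁ a ⁻¹ᵁ O) (PinchLib.preimage_eq hsh O).le).hom.toAlgebra
    letI := (i.appLE (a ⁻¹ᵁ O) (i ⁻¹ᵁ a ⁻¹ᵁ O) le_rfl).hom.toAlgebra
    letI := ((i ≫ a).appLE O (i ⁻¹ᵁ a ⁻¹ᵁ O) le_rfl).hom.toAlgebra
    letI := (b'.appLE (k ⁻¹ᵁ O) (b' ⁻¹ᵁ k ⁻¹ᵁ O) le_rfl).hom.toAlgebra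
    letI := (a'.appLE (k ⁻¹ᵁ O) (a' ⁻¹ᵁ k ⁻¹ᵁ O) le_rfl).hom.toAlgebra
    letI := (jV.appLE (b' ⁻¹ᵁ k ⁻¹ᵁ O) (iU ⁻¹ᵁ a' ⁻¹ᵁ k ⁻¹ᵁ O)
      (PinchLib.preimage_eq hTsh (k ⁻¹ᵁ O)).le).hom.toAlgebra
    letI := (iU.appLE (a' ⁻¹ᵁ k ⁻¹ᵁ O) (iU ⁻¹ᵁ a' ⁻¹ᵁ k ⁻¹ᵁ O) le_rfl).hom.toAlgebra
    letI := ((iU ≫ a').appLE (k ⁻¹ᵁ O) (iU ⁻¹ᵁ a' ⁻¹ᵁ k ⁻¹ᵁ O) le_rfl).hom.toAlgebra
    obtain ⟨_, _, hs⟩ := PinchLib.isFibreSquare hsh O (hO.preimage a)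
    have hF := IsFib.of_isFibreSquare hs
    obtain ⟨_, _, hs'⟩ := PinchLib.isFibreSquare hTsh (k ⁻¹ᵁ O)
      ((hk O hO).preimage a')
    have hF' := IsFib.of_isFibreSquare hs'
    have eX : gU ⁻¹ᵁ a ⁻¹ᵁ O ≤ a' ⁻¹ᵁ k ⁻¹ᵁ O := (eqa O).ge
    let C' : UZ.Opens := iU ⁻¹ᵁ a' ⁻¹ᵁ k ⁻¹ᵁ O
    have hC1 : C' = iU ⁻¹ᵁ (a' ⁻¹ᵁ k ⁻¹ᵁ O) ⊓ gZ ⁻¹ᵁ i ⁻¹ᵁ a ⁻¹ᵁ O := by
      show iU ⁻¹ᵁ a' ⁻¹ᵁ k ⁻¹ᵁ O = _
      rw [eqa, ← Scheme.Hom.comp_preimage iU gU, hU.w, Scheme.Hom.comp_preimage, inf_idem]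
    have eC : C' ≤ jV ⁻¹ᵁ b' ⁻¹ᵁ k ⁻¹ᵁ O :=
      (PinchLib.preimage_eq hTsh (k ⁻¹ᵁ O)).le
    have hC2 : C' = jV ⁻¹ᵁ (b' ⁻¹ᵁ k ⁻¹ᵁ O) ⊓ gZ ⁻¹ᵁ i ⁻¹ᵁ a ⁻¹ᵁ O := by
      refine le_antisymm (le_inf eC (hC1.le.trans inf_le_right)) (inf_le_right.trans ?_)
      show _ ≤ iU ⁻¹ᵁ a' ⁻¹ᵁ k ⁻¹ᵁ O
      rw [eqa, ← Scheme.Hom.comp_preimage iU gU, hU.w, Scheme.Hom.comp_preimage]
    have hA := isPushout_appLE hU (hO.preimage a) ((hk O hO).preimage a')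
      (((hO.preimage a).preimage i)) (eqa O).le le_rfl hC1 le_rfl (hC1.le.trans inf_le_right)
    have hB := isPushout_appLE hV (hO.preimage b) ((hk O hO).preimage b')
      ((hO.preimage a).preimage i) (eqb O).le (eqz O).le hC2 eC (hC1.le.trans inf_le_right)
    obtain ⟨r1, r2, r3, r4⟩ := milnor_glue
      (gP := k.appLE O (k ⁻¹ᵁ O) le_rfl) hF hF'
      (by
        show b.appLE O (b ⁻¹ᵁ O) le_rfl ≫ gV.appLE (b ⁻¹ᵁ O) (b' ⁻¹ᵁ k ⁻¹ᵁ O) (eqb O).le =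
          k.appLE O (k ⁻¹ᵁ O) le_rfl ≫ b'.appLE (k ⁻¹ᵁ O) (b' ⁻¹ᵁ k ⁻¹ᵁ O) le_rfl
        rw [Scheme.Hom.appLE_comp_appLE, Scheme.Hom.appLE_comp_appLE]
        simp only [wb])
      (by
        show a.appLE O (a ⁻¹ᵁ O) le_rfl ≫ gU.appLE (a ⁻¹ᵁ O) (a' ⁻¹ᵁ k ⁻¹ᵁ O) (eqa O).le =
          k.appLE O (k ⁻¹ᵁ O) le_rfl ≫ a'.appLE (k ⁻¹ᵁ O) (a' ⁻¹ᵁ k ⁻¹ᵁ O) le_rfl
        rw [Scheme.Hom.appLE_comp_appLE, Scheme.Hom.appLE_comp_appLE]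
        simp only [wa])
      hB.flip hA.flip
    have fA : (gU.appLE (a ⁻¹ᵁ O) (a' ⁻¹ᵁ k ⁻¹ᵁ O) (eqa O).le).hom.Finite := by
      have := gU.finite_app (a ⁻¹ᵁ O) (hO.preimage a)
      rw [Scheme.Hom.appLE, show (homOfLE (eqa O).le).op = (eqToHom (eqa O)).op from rfl]
      exact RingHom.Finite.comp (RingHom.Finite.of_surjective _
        (ConcreteCategory.bijective_of_isIso _).2) this
    have fB : (gV.appLE (b ⁻¹ᵁ O) (b' ⁻¹ᵁ k ⁻¹ᵁ O) (eqb O).le).hom.Finite := by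
      have := gV.finite_app (b ⁻¹ᵁ O) (hO.preimage b)
      rw [Scheme.Hom.appLE, show (homOfLE (eqb O).le).op = (eqToHom (eqb O)).op from rfl]
      exact RingHom.Finite.comp (RingHom.Finite.of_surjective _
        (ConcreteCategory.bijective_of_isIso _).2) this
    have genA : ∀ (D : U.Opens) (e₁ : D ≤ a' ⁻¹ᵁ k ⁻¹ᵁ O) (e₂ : D ≤ gU ⁻¹ᵁ a ⁻¹ᵁ O),
        a' ⁻¹ᵁ k ⁻¹ᵁ O = D → IsPushout (k.appLE O (k ⁻¹ᵁ O) le_rfl) (a.appLE O (a ⁻¹ᵁ O) le_rfl)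
          (a'.appLE (k ⁻¹ᵁ O) D e₁) (gU.appLE (a ⁻¹ᵁ O) D e₂) := by
      rintro D e₁ e₂ rfl
      exact r2.flip
    have genB : ∀ (D : V.Opens) (e₁ : D ≤ b' ⁻¹ᵁ k ⁻¹ᵁ O) (e₂ : D ≤ gV ⁻¹ᵁ b ⁻¹ᵁ O),
        b' ⁻¹ᵁ k ⁻¹ᵁ O = D → IsPushout (k.appLE O (k ⁻¹ᵁ O) le_rfl) (b.appLE O (b ⁻¹ᵁ O) le_rfl)
          (b'.appLE (k ⁻¹ᵁ O) D e₁) (gV.appLE (b ⁻¹ᵁ O) D e₂) := by
      rintro D e₁ e₂ rfl
      exact r1.flip
    refine ⟨genA _ _ _ (eqa O), genB _ _ _ (eqb O), ?_, ?_⟩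
    · rw [← Scheme.Hom.appLE_eq_app]
      exact r3 fB fA
    · rw [← Scheme.Hom.appLE_eq_app]
      exact r4 (gV.etale_appLE (hO.preimage b) ((hk O hO).preimage b') _)
        (gU.etale_appLE (hO.preimage a) ((hk O hO).preimage a') _)
  let O : W.affineOpens → W.Opens := fun o => o.1
  have hsup : ⨆ o, O o = ⊤ := iSup_affineOpens_eq_top W
  refine ⟨T, k, a', b', ?_, ?_,
    isPullback_of_charts wa O (fun o => o.2) hsup (fun o => hk _ o.2) (fun o => o.2.preimage a) _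
      (fun o => (main _ o.2).1),
    isPullback_of_charts wb O (fun o => o.2) hsup (fun o => hk _ o.2) (fun o => o.2.preimage b) _
      (fun o => (main _ o.2).2.1)⟩
  · exact ⟨fun O hO => (main O hO).2.2.1⟩
  · refine IsZariskiLocalAtTarget.of_iSup_eq_top (P := @Etale) O hsup fun o => ?_
    have : IsAffine (O o).toScheme := o.2
    have : IsAffine (k ⁻¹ᵁ O o).toScheme := hk _ o.2
    rw [HasRingHomProperty.iff_of_isAffine (P := @Etale)]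
    have : (RingHom.toMorphismProperty RingHom.Etale).RespectsIso :=
      RingHom.toMorphismProperty_respectsIso_iff.mp RingHom.Etale.respectsIso
    exact (appTop_restrict (Q := RingHom.toMorphismProperty RingHom.Etale) k (O o)).mpr (main _ o.2).2.2.2

end Groth.Agent.FEtPush
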